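import Mathlib
import Cfsg.Agent.Bender.Cor

/-! Groups with one class of involutions whose centraliser looks like that of a transvection in
`PGU₃(q)`, `q` even: reduction to Bender's theorem. -/

set_option autoImplicit false

namespace Cfsg.Agent.RankOne.PGU

open Subgroup MulAction Cfsg.Agent.Suz Cfsg.Agent.Bender Cfsg.Agent.Inv

/-- The properties of the centraliser of an involution of `PGU₃(q)` that are used. -/
def CU (C : Type*) [Group C] (q : ℕ) : Prop :=
  ∃ Q : Subgroup C, IsPGroup 2 Q ∧ (∀ x : C, ∀ k : ℕ, x ^ 2 ^ k = 1 → x ∈ Q) ∧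
    Nat.card Q = q ^ 3 ∧ Nat.card {x : C // x * x = 1} = q ∧
    (∀ x : C, x * x = 1 → ∀ g, g * x = x * g) ∧ ∀ g : C, (∀ u ∈ Q, g * u = u * g) → g ∈ Q

theorem CU.of_equiv {C C' : Type*} [Group C] [Group C'] {q : ℕ} (e : C' ≃* C) (h : CU C q) :
    CU C' q := by
  obtain ⟨Q, h1, h2, h3, h4, h5, h6⟩ := h
  refine ⟨Q.comap e.toMonoidHom, h1.comap_of_injective _ e.injective, fun x k hx => h2 _ k (by
    rw [MulEquiv.coe_toMonoidHom, ← map_pow, hx, map_one]), ?_, ?_, fun x hx g => e.injective ?_,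
    fun g hg => h6 _ fun u hu => ?_⟩
  · rw [← h3]
    exact Nat.card_congr (e.toEquiv.subtypeEquiv fun _ => Iff.rfl)
  · rw [← h4]
    exact Nat.card_congr (e.toEquiv.subtypeEquiv fun x => by
      rw [MulEquiv.toEquiv_eq_coe, MulEquiv.coe_toEquiv, ← map_mul, MulEquiv.map_eq_one_iff])
  · rw [map_mul, map_mul]
    exact h5 _ (by rw [← map_mul, hx, map_one]) _
  · obtain ⟨u, rfl⟩ := e.surjective u
    have := congrArg e (hg u hu)
    rwa [map_mul, map_mul] at this

variable {G : Type*} [Group G]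

/-- The ambient form of `CU`. -/
structure AU (x : G) (q : ℕ) (Q : Subgroup G) : Prop where
  le : ∀ u ∈ Q, u * x = x * u
  pg : IsPGroup 2 Q
  mem : ∀ g : G, g * x = x * g → ∀ k : ℕ, g ^ 2 ^ k = 1 → g ∈ Q
  card : Nat.card Q = q ^ 3
  cardq : q0 Q = q
  cent : ∀ y : G, y * x = x * y → y * y = 1 → ∀ g, g * x = x * g → g * y = y * g
  self : ∀ g : G, g * x = x * g → (∀ u ∈ Q, g * u = u * g) → g ∈ Q

theorem CU.exists_AU {x : G} {q : ℕ} (h : CU (centralizer ({x} : Set G)) q) :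
    ∃ Q : Subgroup G, AU x q Q := by
  obtain ⟨Q, h1, h2, h3, h4, h5, h6⟩ := h
  have mc : ∀ {g : G}, g * x = x * g → g ∈ centralizer ({x} : Set G) :=
    fun h => mem_centralizer_singleton_iff.2 h
  refine ⟨Q.map (Subgroup.subtype _), ?_, h1.map _, fun g hg k hk =>
    ⟨⟨g, mc hg⟩, h2 _ k (Subtype.ext hk), rfl⟩, ?_, ?_, fun y hy hy2 g hg =>
    congrArg Subtype.val (h5 ⟨y, mc hy⟩ (Subtype.ext hy2) ⟨g, mc hg⟩), fun g hg hc =>
    ⟨⟨g, mc hg⟩, h6 _ fun u hu => Subtype.ext (hc _ ⟨u, hu, rfl⟩), rfl⟩⟩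
  · rintro _ ⟨u, -, rfl⟩
    exact mem_centralizer_singleton_iff.1 u.2
  · rw [← h3, card_map_of_injective (subtype_injective _)]
  · rw [← h4, q0]
    symm
    refine Nat.card_congr (Equiv.ofBijective (fun y => ⟨y.1.1, ⟨y.1, h2 _ 1 (by
      rw [pow_one, pow_two, y.2]), rfl⟩, congrArg Subtype.val y.2⟩) ⟨fun y z h => ?_, ?_⟩)
    · exact Subtype.ext (Subtype.ext (congrArg (fun w => w.1) h))
    · rintro ⟨_, ⟨u, -, rfl⟩, hu⟩
      exact ⟨⟨u, Subtype.ext hu⟩, rfl⟩

variable [Finite G]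

theorem exists_L {q : ℕ} (hq : 2 < q) {x : G} (hx : orderOf x = 2)
    (hC : ∀ y : G, orderOf y = 2 → CU (centralizer ({y} : Set G)) q)
    (hS : ∀ P : Sylow 2 G, ¬ (P : Subgroup G).Normal) :
    ∃ L : Subgroup G, L.Normal ∧ Odd L.index ∧ (∀ g : G, (∀ l ∈ L, g * l = l * g) → g = 1) ∧
      (∀ s t : G, orderOf s = 2 → orderOf t = 2 → ∃ l ∈ L, l * s * l⁻¹ = t) ∧ x ∈ L ∧
      ∃ (F : Type) (_ : Field F) (_ : Fintype F), Fintype.card F = q ^ 2 ∧
        Nonempty (L ≃* Cfsg.PSU 3 F q) := by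
  have o2 : ∀ {y : G}, orderOf y = 2 ↔ y ≠ 1 ∧ y * y = 1 := Bender.orderOf_eq_two_iff'
  -- commuting involutions have the same centraliser
  have hcc : ∀ {y z g : G}, orderOf y = 2 → z * z = 1 → z * y = y * z → g * y = y * g →
      g * z = z * g := fun {y z g} hy hz hzy hg => by
    obtain ⟨Q, hQ⟩ := (hC y hy).exists_AU
    exact hQ.cent z hzy hz g hg
  obtain ⟨Q, hQ⟩ := (hC x hx).exists_AU
  obtain ⟨hx1, hx2⟩ := o2.1 hx
  have cj : ∀ g : G, orderOf (g * x * g⁻¹) = 2 := fun g => by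
    rw [← hx]; exact (MulAut.conj g).orderOf_eq x
  let H : Subgroup G :=
    { carrier := {g | g * x * g⁻¹ * x = x * (g * x * g⁻¹)}
      one_mem' := by simp
      mul_mem' := fun {a b} ha hb => by
        have h1 : a * b * x * (a * b)⁻¹ * (a * x * a⁻¹) = a * x * a⁻¹ * (a * b * x * (a * b)⁻¹) := by
          have := congrArg (fun y => a * y * a⁻¹) (show b * x * b⁻¹ * x = x * (b * x * b⁻¹) from hb)
          simpa [mul_assoc] using this
        exact (hcc (cj a) (o2.1 (cj (a * b))).2 h1 (Eq.symm ha)).symm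
      inv_mem' := fun {a} ha => by
        have := congrArg (fun y => a⁻¹ * y * a) (show a * x * a⁻¹ * x = x * (a * x * a⁻¹) from ha)
        change a⁻¹ * x * a⁻¹⁻¹ * x = x * (a⁻¹ * x * a⁻¹⁻¹)
        simpa [mul_assoc] using this.symm }
  have mH : ∀ {g : G}, g ∈ H ↔ g * x * g⁻¹ * x = x * (g * x * g⁻¹) := Iff.rfl
  have cH : ∀ {g : G}, g * x = x * g → g ∈ H := fun {g} hg => by
    rw [mH, hg, mul_inv_cancel_right]
  -- involutions of `H` commute with `x`
  have iH : ∀ {u : G}, u ∈ H → u * u = 1 → u * x = x * u := fun {u} hu hu2 => by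
    have ui : u⁻¹ = u := inv_eq_of_mul_eq_one_right hu2
    by_cases h : u * x * u⁻¹ = x
    · exact mul_inv_eq_iff_eq_mul.1 h
    have h1 : orderOf (x * (u * x * u⁻¹)) = 2 := o2.2 ⟨fun e => h (by
      rw [← inv_eq_of_mul_eq_one_right e, inv_eq_of_mul_eq_one_right hx2]), by
      calc x * (u * x * u⁻¹) * (x * (u * x * u⁻¹)) = x * (u * x * u⁻¹ * x) * (u * x * u⁻¹) := by
            group
        _ = (x * x) * (u * (x * x) * u⁻¹) := by rw [mH.1 hu]; group
        _ = 1 := by rw [hx2]; group⟩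
    refine hcc h1 hx2 ?_ ?_
    · rw [mul_assoc x, mH.1 hu]
    · calc u * (x * (u * x * u⁻¹)) = (u * x * u⁻¹ * x) * u := by
            rw [ui]; simp only [mul_assoc]
        _ = x * (u * x * u⁻¹) * u := by rw [mH.1 hu]
  have hQs : ∀ P : Subgroup G, IsPGroup 2 P → (∀ g ∈ P, g * x = x * g) → P ≤ Q := fun P hP hc g hg => by
    obtain ⟨k, hk⟩ := hP ⟨g, hg⟩
    exact hQ.mem g (hc g hg) k (congrArg Subtype.val hk)
  have hSE : IsStronglyEmbedded H := by
    refine ⟨fun htop => ?_, RankOne.even_of_invol (cH rfl) hx1 hx2, fun g hg => ?_⟩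
    · obtain ⟨P, hP⟩ := exists_sylow_mem hx
      obtain ⟨z, hzP, hz, hc⟩ := exists_central_involution_of_isPGroup P.isPGroup' (fun e => by
        rw [e, mem_bot] at hP; exact hx1 hP)
      have h1 : (P : Subgroup G) ≤ Q := hQs _ P.isPGroup' fun g hg =>
        hcc hz hx2 (hc x hP) (hc g hg)
      have h2 : Q = P := P.is_maximal' hQ.pg h1
      refine hS P (h2 ▸ ⟨fun u hu g => ?_⟩)
      obtain ⟨k, hk⟩ := hQ.pg ⟨u, hu⟩
      refine hQ.mem _ ?_ k (by
        rw [conj_pow, show u ^ 2 ^ k = 1 from congrArg Subtype.val hk]; group)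
      have h3 := hcc hx (o2.1 (cj g⁻¹)).2 (mH.1 (htop ▸ mem_top g⁻¹)) (hQ.le u hu)
      have := congrArg (fun y => g * y * g⁻¹) h3
      simpa [mul_assoc] using this
    · by_contra hev
      obtain ⟨u, ⟨hu, v, hv, e⟩, hu1, hu2⟩ := exists_invol_of_even (Nat.not_odd_iff_even.1 hev)
      have e' : g * v * g⁻¹ = u := e
      have hv2 : v * v = 1 := by
        have : g * (v * v) * g⁻¹ = 1 := by rw [← hu2, ← e']; group
        simpa using this
      have h1 := congrArg (fun y => g * y * g⁻¹) (iH hv hv2)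
      have h2 : g * x * g⁻¹ * u = u * (g * x * g⁻¹) := by
        rw [← e']; simpa [mul_assoc] using h1.symm
      exact hg (mH.2 (hcc (o2.2 ⟨hu1, hu2⟩) hx2 (iH hu hu2).symm h2))
  have hxQ : x ∈ Q := hQ.mem x rfl 1 (by rw [pow_one, pow_two, hx2])
  have h2 : TwoRank G := by
    have h3 : 2 < Nat.card {y : G // y ∈ Q ∧ y * y = 1} := by
      have := hQ.cardq
      rw [q0] at this
      omega
    by_contra hne
    have hs : Function.Surjective (fun b : Bool => if b then (⟨x, hxQ, hx2⟩ :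
        {y : G // y ∈ Q ∧ y * y = 1}) else ⟨1, one_mem _, mul_one _⟩) := by
      rintro ⟨y, hy, hy2⟩
      by_cases h1 : y = 1
      · exact ⟨false, Subtype.ext h1.symm⟩
      · exact ⟨true, Subtype.ext (eq_of_not_twoRank hne hx (o2.2 ⟨h1, hy2⟩) (hQ.le y hy).symm)⟩
    have := Nat.card_le_card_of_surjective _ hs
    simp only [Nat.card_eq_fintype_card, Fintype.card_bool] at this
    omega
  have hO : oddCore G = ⊥ := by
    rw [eq_bot_iff]
    intro o ho
    have od : ∀ {w : G}, w ∈ oddCore G → ∀ k : ℕ, w ^ 2 ^ k = 1 → w = 1 := fun {w} hw k hk =>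
      orderOf_eq_one_iff.1 (Nat.eq_one_of_dvd_coprimes ((Nat.coprime_two_right.mpr
        (odd_orderOf_of_mem (odd_card_pPrimeCore_two G) hw)).pow_right k) dvd_rfl
        (orderOf_dvd_of_pow_eq_one hk))
    have hN : (oddCore G).Normal := inferInstance
    have cm : ∀ u : G, o * u * o⁻¹ * u⁻¹ ∈ oddCore G := fun u => by
      rw [mul_assoc o, mul_assoc o]
      exact mul_mem ho (hN.conj_mem _ (inv_mem ho) u)
    have h3 : o * x = x * o := by
      have h4 := mH.1 (oddCore_le hSE h2 ho)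
      have h5 := od (cm x) 1 (by
        rw [inv_eq_of_mul_eq_one_right hx2, pow_one, pow_two]
        calc o * x * o⁻¹ * x * (o * x * o⁻¹ * x) = (o * x * o⁻¹) * (x * (o * x * o⁻¹)) * x := by
              group
          _ = o * (x * x) * o⁻¹ * (x * x) := by rw [← h4]; group
          _ = 1 := by rw [hx2]; group)
      rwa [mul_inv_eq_one, mul_inv_eq_iff_eq_mul] at h5
    have h4 : o ∈ Q := hQ.self o h3 fun u hu => by
      obtain ⟨k, hk⟩ := hQ.pg ⟨u, hu⟩
      have h5 : o * u * o⁻¹ ∈ Q := hQ.mem _ (((show Commute o x from h3).mul_left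
        (show Commute u x from hQ.le u hu)).mul_left (show Commute o x from h3).inv_left) k (by
        rw [conj_pow, show u ^ 2 ^ k = 1 from congrArg Subtype.val hk]; group)
      obtain ⟨k', hk'⟩ := hQ.pg ⟨_, mul_mem h5 (inv_mem hu)⟩
      have h6 := od (cm u) k' (congrArg Subtype.val hk')
      rwa [mul_inv_eq_one, mul_inv_eq_iff_eq_mul] at h6
    obtain ⟨k, hk⟩ := hQ.pg ⟨o, h4⟩
    exact od ho k (congrArg Subtype.val hk)
  obtain ⟨t, Q', hR⟩ := rankOneCosets_of_oddCore_eq_bot hSE h2 hO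
  have hf := faithful_of_core ((normalCore_eq_oddCore hSE h2).trans hO)
  obtain ⟨P, hP⟩ := exists_sylow_eq_Q hR h2
  have hxQ' : x ∈ Q' := mem_Q_of_sq hR (smul_one_eq_iff.2 (cH rfl)) hx2
  obtain rfl : Q = Q' := by
    obtain ⟨z, hzP, hz, hc⟩ := exists_central_involution_of_isPGroup (isPGroup_Q hR h2) (fun e => by
      rw [e, mem_bot] at hxQ'; exact hx1 hxQ')
    have h1 : Q' ≤ Q := hQs _ (isPGroup_Q hR h2) fun g hg => hcc hz hx2 (hc x hxQ') (hc g hg)
    rw [← hP] at h1 ⊢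
    exact P.is_maximal' hQ.pg h1
  have hyp : Hyp G (G ⧸ H) _ t Q := ⟨hR, hf, h2, exists_generator_K hR h2⟩
  have hQL : Q ≤ L t Q := le_sup_left
  have htL : t ∈ L t Q := mem_sup_right (mem_zpowers t)
  refine ⟨L t Q, (L_normal hR).1, (L_normal hR).2, fun g hg => ?_, fun s s' hs hs' => ?_,
    hQL hxQ, ?_⟩
  · have h1 : g ∈ Q := hQ.self g (hg x (hQL hxQ)) fun u hu => hg u (hQL hu)
    exact eq_one_of_mem_Q_of_fix hR h1 (by rw [← mul_smul, hg t htL, mul_smul, Q_smul hR h1])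
  · have key : ∀ s : G, orderOf s = 2 → ∃ l ∈ L t Q, l * s * l⁻¹ = x := fun s hs => by
      obtain ⟨c, hc⟩ := exists_fix hR (o2.1 hs).2
      obtain ⟨l, hl, e⟩ : ∃ l ∈ L t Q, l • ((1 : G) : G ⧸ H) = c := by
        by_cases h : c = ((1 : G) : G ⧸ H)
        · exact ⟨1, one_mem _, by rw [h, one_smul]⟩
        · obtain ⟨u, hu, e⟩ := exists_Q_smul hR h
          exact ⟨u * t, mul_mem (hQL hu) htL, by rw [mul_smul, e]⟩
      have h1 : orderOf (l⁻¹ * s * l) = 2 := by
        rw [← hs]; simpa using (MulAut.conj l⁻¹).orderOf_eq s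
      obtain ⟨k, hk, e'⟩ := exists_K_conj hR (s := l⁻¹ * s * l) (s' := x)
        ⟨by change (l⁻¹ * s * l) • _ = _
            rw [mul_smul, mul_smul, e, hc, ← e, inv_smul_smul], (o2.1 h1).1, (o2.1 h1).2⟩
        ⟨smul_one_eq_iff.2 (cH rfl), hx1, hx2⟩
      refine ⟨k⁻¹ * l⁻¹, mul_mem (inv_mem (K_le_L hR (subset_closure hk))) (inv_mem hl), ?_⟩
      rw [← e']; group
    obtain ⟨l, hl, e⟩ := key s hs
    obtain ⟨l', hl', e'⟩ := key s' hs'
    refine ⟨l'⁻¹ * l, mul_mem (inv_mem hl') hl, ?_⟩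
    calc l'⁻¹ * l * s * (l'⁻¹ * l)⁻¹ = l'⁻¹ * (l * s * l⁻¹) * l' := by group
      _ = s' := by rw [e, ← e']; group
  · have c1 := hQ.card
    have c2 := hQ.cardq
    rcases trich hR h2 with h | h | h
    · exfalso
      have : q0 Q = Nat.card Q := Nat.card_congr (Equiv.subtypeEquivRight fun y =>
        ⟨fun h => h.1, fun hy => ⟨hy, h.1 y hy⟩⟩)
      rw [c1, c2] at this
      have : q * 1 < q * (q * q) := Nat.mul_lt_mul_of_pos_left (by nlinarith) (by omega)
      nlinarith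
    · exfalso
      have := h.2.2.2.1
      rw [c1, c2] at this
      have : q ^ 2 < q ^ 3 := Nat.pow_lt_pow_right (by omega) (by omega)
      omega
    · obtain ⟨F, i1, i2, hF, e⟩ := hyp.identU h
      rw [c2] at hF e
      exact ⟨F, i1, i2, hF, e⟩

end Cfsg.Agent.RankOne.PGU
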