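import Mathlib
import Cfsg.Agent.RankOne.PGUEvenA
import Cfsg.Agent.Class.U.U3Binary
import Cfsg.Agent.KSG.AutPSU
import Cfsg.Agent.Class.FieldTransport

/-! The centraliser of a transvection in `PGU₃(q)`, `q` even, and the automorphisms of `PSU₃(q)`
centralising a group of transvections. -/

set_option autoImplicit false

namespace Cfsg.Agent.RankOne.PGU

open Subgroup MulAction Matrix Cfsg.Agent.Class.U Cfsg.Agent.KSG

variable {F : Type*} [Field F] {q : ℕ} [hU : UF F q]

local notation "σ" => conj F q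
local notation "𝐡" => hermForm 3 F q

theorem mem_center_GU_iff (hq : 2 < q) {z : GU 3 F q} :
    z ∈ center (GU 3 F q) ↔ ∃ c : Fˣ, GeneralLinearGroup.scalar (Fin 3) c = z := by
  have := hU.finite
  constructor
  · intro hz
    rw [← iotaU_eq_one_iff le_rfl (by omega), iotaU_apply, eq_comm, eq_psiU_iff]
    intro a b hab
    have : toGU b = toGU a := hab.trans (by
      change z * guAct 3 F q 1 (toGU a) * z⁻¹ = _
      rw [map_one, MulAut.one_apply, ← mem_center_iff.1 hz, mul_inv_cancel_right])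
    rw [toGU_injective this]; rfl
  · rintro ⟨c, hc⟩
    refine mem_center_iff.2 fun g => Subtype.ext ?_
    change g.1 * z.1 = z.1 * g.1
    rw [← hc, GeneralLinearGroup.scalar_commute]

theorem ker_iotaU_eq (hq : 2 < q) [Finite F] : (iotaU 3 F q).ker = center (GU 3 F q) :=
  Subgroup.ext fun _ => (iotaU_eq_one_iff le_rfl (by omega)).trans (mem_center_GU_iff hq).symm

omit hU in
theorem smul_of_scalar {z : GU 3 F q} {c : Fˣ} (h : GeneralLinearGroup.scalar (Fin 3) c = z)
    (v : Fin 3 → F) : z • v = (c : F) • v := by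
  rw [GU_smul_def, ← h, scalar_mulVec]

theorem conj_transv (g : GU 3 F q) {u : Fin 3 → F} {a : F} {t : SU 3 F q} (ht : IsSiegel u 0 a t)
    (x : Fin 3 → F) : (g * toGU t * g⁻¹) • x = x + (a * 𝐡 x (g • u)) • g • u := by
  obtain ⟨y, rfl⟩ : ∃ y, x = g • y := ⟨g⁻¹ • x, by simp⟩
  rw [mul_smul, mul_smul, inv_smul_smul, toGU_smul, ht.smul_zero_vec, smul_add, GU_smul_comm,
    GU_herm]

theorem odd_succ (h2 : (2 : F) = 0) : Odd (q + 1) := by
  obtain ⟨p, k, hp, hc, rfl, hk⟩ := exists_prime_pow F q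
  obtain rfl : p = 2 := (Nat.prime_dvd_prime_iff_eq hp Nat.prime_two).1
    ((CharP.cast_eq_zero_iff F p 2).1 (by exact_mod_cast h2))
  exact ((Nat.even_pow' hk.ne').2 even_two).add_one

theorem eq_one_of_norm (h2 : (2 : F) = 0) {c : F} (hc : c * σ c = 1) {k : ℕ} (hk : c ^ 2 ^ k = 1) :
    c = 1 := by
  rw [mul_conj_eq_pow] at hc
  exact orderOf_eq_one_iff.1 (Nat.eq_one_of_dvd_coprimes
    ((Nat.coprime_two_right.2 (odd_succ (F := F) h2)).pow_right k) (orderOf_dvd_of_pow_eq_one hc)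
    (orderOf_dvd_of_pow_eq_one hk))

variable {e n f : Fin 3 → F} (h : Fr q e n f) (h2 : (2 : F) = 0)
include h

theorem exists_refl {m : F} (hm : m * σ m = 1) :
    ∃ r : GU 3 F q, r • e = e ∧ r • n = m • n ∧ r • f = f ∧ (detGU r : F) = m := by
  have hn : 𝐡 n n ≠ 0 := by rw [h.nn]; exact one_ne_zero
  exact ⟨mkGU _ (pres_refl hn hm), unitaryTransvection_mulVec_of_orth _ h.en,
    refl_mulVec_self hn m, unitaryTransvection_mulVec_of_orth _ h.fn, det_refl hn m⟩

theorem siegel_of_det {g : GU 3 F q} (hg : g • e = e) (hd : (detGU g : F) = 1) :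
    ∃ (u : SU 3 F q) (c a : F), IsSiegel e (c • n) a u ∧ toGU u = g := by
  obtain ⟨u, rfl⟩ := exists_su (g := g) hd
  obtain ⟨c, a, hu⟩ := h.isSiegel_of_fix (g := u) hg
  exact ⟨u, c, a, hu, rfl⟩

include h2

theorem cu_stabilizer : CU (stabilizer (GU 3 F q) e) q := by
  have := hU.finite
  have := Fintype.ofFinite F
  have ng : ∀ y : F, -y = y := fun y => by linear_combination (-y) * h2
  have ne : ∀ s : F, 𝐡 (s • n) e = 0 := fun s => by rw [herm_smul_left, h.ne, mul_zero]
  let Q : Subgroup (stabilizer (GU 3 F q) e) := (detGU.comp (Subgroup.subtype _)).ker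
  have mQ : ∀ {g : stabilizer (GU 3 F q) e}, g ∈ Q ↔ (detGU g.1 : F) = 1 := fun {g} =>
    Units.ext_iff
  have sq : ∀ {u : SU 3 F q} {c a : F}, IsSiegel e (c • n) a u →
      IsSiegel e 0 (c * σ c) (u * u) := fun {u c a} hu => by
    have := hu.mul hu h.ee (ne c) (ne c)
    rwa [← two_smul F, h2, zero_smul, herm_smul_left, herm_smul_right, h.nn, ← two_mul, h2, zero_mul,
      mul_one, zero_sub, ng] at this
  have two : ∀ (g : stabilizer (GU 3 F q) e) (k : ℕ), g ^ 2 ^ k = 1 → g ∈ Q := fun g k hk =>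
    mQ.2 (eq_one_of_norm h2 (detGU_mul_conj g.1) (k := k) (by
      rw [← Units.val_pow_eq_pow_val, ← map_pow, ← Subgroup.coe_pow, hk]; simp))
  have inv : ∀ {g : stabilizer (GU 3 F q) e}, g * g = 1 →
      ∃ (u : SU 3 F q) (a : F), IsSiegel e 0 a u ∧ toGU u = g := fun {g} hg => by
    obtain ⟨u, c, a, hu, e1⟩ := siegel_of_det h g.2 (mQ.1 (two g 1 (by rw [pow_one, pow_two, hg])))
    have h1 : u * u = 1 := toGU_injective (by
      rw [map_mul, e1, map_one]; exact congrArg Subtype.val hg)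
    have h3 := (sq hu).smul_zero_vec f
    rw [h1, one_smul, h.fe, mul_one, eq_comm, add_eq_left, smul_eq_zero_iff_left h.e_ne,
      mul_eq_zero, conj_eq_zero, or_self] at h3
    subst h3
    exact ⟨u, a, by simpa using hu, e1⟩
  -- parametrisation of `Q`
  have par : ∀ p : {p : F × F // p.2 + σ p.2 + p.1 * σ p.1 = 0}, ∃ g : Q,
      g.1.1 • f = p.1.2 • e + p.1.1 • n + f := fun p => by
    obtain ⟨u, hu⟩ := h.exists_unip p.2
    exact ⟨⟨⟨toGU u, h.unip_e hu⟩, mQ.2 (det_toGU u)⟩, h.unip_f hu⟩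
  have uq : ∀ {g g' : Q}, g.1.1 • f = g'.1.1 • f → g = g' := fun {g g'} hf => by
    obtain ⟨u, hu⟩ := exists_su (g := g.1.1) (mQ.1 g.2)
    obtain ⟨u', hu'⟩ := exists_su (g := g'.1.1) (mQ.1 g'.2)
    have : u'⁻¹ * u = 1 := h.eq_one (by
      rw [mul_smul, inv_smul_eq_iff, ← toGU_smul, ← toGU_smul, hu, hu']
      exact g.1.2.trans g'.1.2.symm) (by
      rw [mul_smul, inv_smul_eq_iff, ← toGU_smul, ← toGU_smul, hu, hu', hf])
    exact Subtype.ext (Subtype.ext (by rw [← hu, ← hu', inv_mul_eq_one.1 this]))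
  refine ⟨Q, fun g => ⟨2, ?_⟩, two, ?_, ?_, fun x hx g => ?_, fun g hg => ?_⟩
  · obtain ⟨u, c, a, hu, e1⟩ := siegel_of_det h g.1.2 (mQ.1 g.2)
    refine Subtype.ext (Subtype.ext ?_)
    change g.1.1 ^ 2 ^ 2 = 1
    rw [← e1, ← map_pow, show u ^ 2 ^ 2 = u * u * (u * u) by
      rw [show 2 ^ 2 = 2 + 2 from rfl, pow_add, pow_two],
      transv_mul_self h2 h.ee ⟨_, sq hu⟩, map_one]
  · choose φ hφ using par
    have hb : Function.Bijective φ := by
      refine ⟨fun p p' e1 => ?_, fun g => ?_⟩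
      · have := hφ p
        rw [e1, hφ p'] at this
        obtain ⟨h1, h3, -⟩ := h.comb_inj (a := p'.1.2) (b := p'.1.1) (c := 1) (a' := p.1.2)
          (b' := p.1.1) (c' := 1) (by simpa using this)
        exact Subtype.ext (Prod.ext h3.symm h1.symm)
      · obtain ⟨u, c, a, hu, e1⟩ := siegel_of_det h g.1.2 (mQ.1 g.2)
        have := hu.cond h.e_ne h.ee (ne c)
        rw [herm_smul_left, herm_smul_right, h.nn, mul_one] at this
        exact ⟨⟨(c, a), this⟩, uq (by rw [hφ, ← e1, toGU_smul, h.unip_f hu])⟩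
    rw [← Nat.card_congr (Equiv.ofBijective φ hb), Nat.card_congr (Equiv.subtypeProdEquivSigmaSubtype
      fun c a : F => a + σ a + c * σ c = 0), Nat.card_sigma]
    have : ∀ c : F, Nat.card {a : F // a + σ a + c * σ c = 0} = q := fun c =>
      (Nat.card_congr (Equiv.subtypeEquivRight fun a => by rw [eq_neg_iff_add_eq_zero])).trans
        (card_trace_fiber (F := F) (q := q) (a := -(c * σ c)) (by
          rw [map_neg, map_mul, conj_conj, mul_comm]))
    simp only [this, Finset.sum_const, Finset.card_univ, smul_eq_mul]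
    rw [← Nat.card_eq_fintype_card, hU.card_eq]; ring
  · have ex : ∀ a : {a : F // a + σ a = 0}, ∃ g : {x : stabilizer (GU 3 F q) e // x * x = 1},
        g.1.1 • f = f + a.1 • e := fun a => by
      obtain ⟨u, hu⟩ := exists_transvection h.ee a.2
      refine ⟨⟨⟨toGU u, hu.smul_of_orth h.ee (herm_zero_right _)⟩, Subtype.ext ?_⟩, ?_⟩
      · change toGU u * toGU u = 1
        rw [← map_mul, transv_mul_self h2 h.ee ⟨_, hu⟩, map_one]
      · change u • f = _
        rw [hu.smul_zero_vec, h.fe, mul_one]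
    choose φ hφ using ex
    have hb : Function.Bijective φ := by
      refine ⟨fun p p' e1 => ?_, fun g => ?_⟩
      · have := hφ p
        rw [e1, hφ p', add_right_inj] at this
        exact Subtype.ext (smul_left_injective F h.e_ne this).symm
      · obtain ⟨u, a, hu, e1⟩ := inv g.2
        have := hu.cond h.e_ne h.ee (herm_zero_left _)
        rw [herm_zero_left, add_zero] at this
        refine ⟨⟨a, this⟩, Subtype.ext (congrArg (fun w => w.1) (uq
          (g := ⟨(φ ⟨a, this⟩).1, two _ 1 (by rw [pow_one, pow_two, (φ _).2])⟩)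
          (g' := ⟨g.1, two _ 1 (by rw [pow_one, pow_two, g.2])⟩) ?_))⟩
        change (φ _).1.1 • f = g.1.1 • f
        rw [hφ, ← e1, toGU_smul, hu.smul_zero_vec, h.fe, mul_one]
    rw [← Nat.card_congr (Equiv.ofBijective φ hb), card_trace_fiber (map_zero _)]
  · obtain ⟨u, a, hu, e1⟩ := inv hx
    refine Subtype.ext (mul_inv_eq_iff_eq_mul.1 (GU_ext fun v => ?_))
    change (g.1 * x.1 * g.1⁻¹) • v = x.1 • v
    rw [← e1, conj_transv _ hu, show g.1 • e = e from g.2, toGU_smul, hu.smul_zero_vec]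
  · obtain ⟨r, r1, r2, r3, r4⟩ := exists_refl h (detGU_mul_conj g.1)
    obtain ⟨u₀, c, a, hu₀, e1⟩ := siegel_of_det h (g := g.1 * r⁻¹) (by
      rw [mul_smul, inv_smul_eq_iff.2 r1.symm]; exact g.2) (by
      rw [map_mul, map_inv, Units.val_mul, Units.val_inv_eq_inv_val, r4,
        mul_inv_cancel₀ (Units.ne_zero _)])
    have e2 : g.1 = toGU u₀ * r := by rw [e1, inv_mul_cancel_right]
    obtain ⟨b, hb⟩ := exists_trace_eq (F := F) (q := q) (a := -1) (by rw [map_neg, map_one])
    obtain ⟨u, hu⟩ := h.exists_unip (c := 1) (a := b) (by rw [hb, map_one]; ring)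
    have h1 := congrArg (fun y : stabilizer (GU 3 F q) e => 𝐡 (y.1 • f) n)
      (hg ⟨toGU u, h.unip_e hu⟩ (mQ.2 (det_toGU u)))
    refine mQ.2 ?_
    generalize (detGU g.1 : F) = m at r2
    simp only [Subgroup.coe_mul, e2, mul_smul, toGU_smul, h.unip_f hu, smul_add, GU_smul_comm,
      r1, r2, r3, h.unip_e hu₀, h.unip_n hu₀, h.unip_f hu₀, h.unip_e hu, h.unip_n hu,
      herm_add_left, herm_sub_left, herm_smul_left, h.en, h.nn, h.fn] at h1
    linear_combination h1

theorem nonempty_equiv_centralizer (hq : 2 < q) {t : SU 3 F q} (ht : IsSiegel e 0 1 t) :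
    Nonempty (stabilizer (GU 3 F q) e ≃* centralizer ({(QuotientGroup.mk (toGU t) :
      GU 3 F q ⧸ center (GU 3 F q))} : Set _)) := by
  have tt : toGU t * toGU t = 1 := by rw [← map_mul, transv_mul_self h2 h.ee ⟨_, ht⟩, map_one]
  let φ : stabilizer (GU 3 F q) e →* centralizer ({(QuotientGroup.mk (toGU t) :
      GU 3 F q ⧸ center (GU 3 F q))} : Set _) :=
    ((QuotientGroup.mk' _).comp (Subgroup.subtype _)).codRestrict _ fun g => by
      rw [mem_centralizer_singleton_iff]
      change (QuotientGroup.mk (g.1 * toGU t) : GU 3 F q ⧸ center (GU 3 F q)) =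
        QuotientGroup.mk (toGU t * g.1)
      congr 1
      refine mul_inv_eq_iff_eq_mul.1 (GU_ext fun v => ?_)
      rw [conj_transv _ ht, show g.1 • e = e from g.2, toGU_smul, ht.smul_zero_vec]
  refine ⟨MulEquiv.ofBijective φ ⟨(injective_iff_map_eq_one _).2 fun g hg => ?_, ?_⟩⟩
  · obtain ⟨c, hc⟩ := (mem_center_GU_iff hq).1 ((QuotientGroup.eq_one_iff g.1).1
      (congrArg Subtype.val hg))
    have h1 := smul_of_scalar hc e
    rw [show g.1 • e = e from g.2] at h1
    have h3 : (c : F) = 1 := smul_left_injective F h.e_ne (by simpa using h1.symm)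
    exact Subtype.ext (GU_ext fun v => by rw [smul_of_scalar hc, h3, one_smul]; simp)
  · rintro ⟨w, hw⟩
    obtain ⟨g, rfl⟩ := QuotientGroup.mk_surjective w
    rw [mem_centralizer_singleton_iff, ← mul_inv_eq_iff_eq_mul, ← QuotientGroup.mk_inv,
      ← QuotientGroup.mk_mul, ← QuotientGroup.mk_mul, eq_comm, QuotientGroup.eq] at hw
    obtain ⟨c, hc⟩ := (mem_center_GU_iff hq).1 hw
    obtain ⟨z, hz⟩ : ∃ z, z = (toGU t)⁻¹ * (g * toGU t * g⁻¹) := ⟨_, rfl⟩
    rw [← hz] at hw hc
    have e1 : g * toGU t * g⁻¹ = toGU t * z := by rw [hz, mul_inv_cancel_left]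
    have h1 : z * z = 1 := by
      have : toGU t * z * (toGU t * z) = 1 := by
        rw [← e1, show g * toGU t * g⁻¹ * (g * toGU t * g⁻¹) = g * (toGU t * toGU t) * g⁻¹ by group,
          tt]; group
      rwa [mul_assoc, ← mul_assoc z, ← mem_center_iff.1 hw, ← mul_assoc, ← mul_assoc, tt,
        one_mul] at this
    have h3 : (c : F) = 1 := eq_one_of_norm h2 ((scalar_mem_GU_iff (n := 3) (by omega)).1
      (hc ▸ z.2)) (k := 1) (smul_left_injective F h.e_ne (by
        have := congrArg (· • e) h1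
        simp only [mul_smul, smul_of_scalar hc, one_smul] at this
        simpa [pow_two, mul_smul] using this))
    have h4 := conj_transv g ht f
    rw [e1, mul_smul, smul_of_scalar hc, h3, one_smul, toGU_smul, ht.smul_zero_vec, h.fe, one_mul,
      one_mul, one_smul, add_right_inj] at h4
    set l := 𝐡 f (g • e) with hl
    have l0 : l ≠ 0 := by
      intro h0
      rw [h0, zero_smul] at h4
      exact h.e_ne h4
    have h5 : l * σ l = 1 := by
      have := congrArg (𝐡 f) h4
      rw [herm_smul_right, h.fe, ← hl] at this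
      rw [mul_comm, ← this]
    have h6 : GeneralLinearGroup.scalar (Fin 3) (Units.mk0 l l0) ∈ GU 3 F q :=
      (scalar_mem_GU_iff (by omega)).2 h5
    refine ⟨⟨⟨_, h6⟩ * g, ?_⟩, Subtype.ext ?_⟩
    · rw [mem_stabilizer_iff, mul_smul, smul_of_scalar (c := Units.mk0 l l0) rfl]
      exact h4.symm
    · change (QuotientGroup.mk (⟨_, h6⟩ * g) : GU 3 F q ⧸ center (GU 3 F q)) = QuotientGroup.mk g
      rw [QuotientGroup.mk_mul, (QuotientGroup.eq_one_iff _).2 ((mem_center_GU_iff hq).2 ⟨_, rfl⟩),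
        one_mul]

omit h in
theorem exists_invol_cu (hq : 2 < q) : ∃ y : GU 3 F q ⧸ center (GU 3 F q), orderOf y = 2 ∧
    CU (centralizer ({y} : Set (GU 3 F q ⧸ center (GU 3 F q)))) q := by
  obtain ⟨e, e0, ee⟩ := exists_isotropic (F := F) (q := q) (n := 3) (by norm_num)
  obtain ⟨t, ht⟩ := exists_transvection ee (a := 1) (by rw [map_one]; linear_combination h2)
  obtain ⟨n, f, h⟩ := exists_fr e0 ee
  obtain ⟨φ⟩ := nonempty_equiv_centralizer h h2 hq ht
  refine ⟨_, orderOf_eq_prime ?_ fun h1 => ?_, (cu_stabilizer h h2).of_equiv φ.symm⟩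
  · rw [sq, ← QuotientGroup.mk_mul, ← map_mul, transv_mul_self h2 ee ⟨_, ht⟩, map_one]; rfl
  · obtain ⟨c, hc⟩ := (mem_center_GU_iff hq).1 ((QuotientGroup.eq_one_iff _).1 h1)
    have h3 := smul_of_scalar hc f
    rw [toGU_smul, ht.smul_zero_vec, h.fe, mul_one] at h3
    have := congrArg (fun v => 𝐡 v f) h3
    simp [herm_add_left, herm_smul_left, h.ef, h.ff] at this

omit h in
/-- An automorphism centralising all involutions that commute with a given one, of odd order modulo
the inner-diagonal automorphisms, is inner-diagonal. -/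
theorem mem_range_iotaU [Finite F] (hq : 2 < q)
    (hone : ∀ s t : PSU 3 F q, orderOf s = 2 → orderOf t = 2 → IsConj s t) {s : PSU 3 F q}
    (hs : orderOf s = 2) {β : MulAut (PSU 3 F q)}
    (hβ : ∀ y, y * y = 1 → y * s = s * y → β y = y) {m : ℕ} (hm : Odd m)
    (hβm : β ^ m ∈ (iotaU 3 F q).range) : β ∈ (iotaU 3 F q).range := by
  obtain ⟨π, hπ, -, hk⟩ := exists_projU (F := F) (q := q) (n := 3) le_rfl (by omega)
  obtain ⟨⟨g, τ⟩, rfl⟩ := psiU_surjective (F := F) (q := q) (n := 3) le_rfl (by omega) β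
  rw [← hk, MonoidHom.mem_ker] at hβm ⊢
  rw [map_pow, hπ] at hβm
  rw [hπ]
  change τ ^ m = 1 at hβm
  change τ = 1
  obtain ⟨u, hu, u0, t, htu, -, rfl⟩ := exists_transv_of_inv hone h2
    (Bender.orderOf_eq_two_iff'.1 hs).1 (Bender.orderOf_eq_two_iff'.1 hs).2
  obtain ⟨n, f, h⟩ := exists_fr u0 hu
  set u' := semiPerm g.1 τ u with hu'
  have key : ∀ a : F, σ a = a → ∀ v, (τ a * 𝐡 v u') • u' = (a * 𝐡 v u) • u := fun a ha v => by
    obtain ⟨y, hy⟩ := exists_transvection hu (a := a) (by rw [ha]; linear_combination a * h2)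
    obtain ⟨b, hb⟩ := su_norms (⟨g, τ⟩ : GU 3 F q ⋊[guAct 3 F q] RingAut F) y
    have yy := transv_mul_self h2 hu ⟨_, hy⟩
    have h1 := hβ (QuotientGroup.mk y) (by rw [← QuotientGroup.mk_mul, yy]; rfl) (by
      change (QuotientGroup.mk (y * t) : PSU 3 F q) = QuotientGroup.mk (t * y)
      obtain ⟨a', ht⟩ := htu
      congr 1
      refine (hy.mul ht hu (herm_zero_left _) (herm_zero_left _)).unique ?_
      rw [add_comm a]
      exact ht.mul hy hu (herm_zero_left _) (herm_zero_left _))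
    rw [(eq_psiU_iff ⟨g, τ⟩ _).1 rfl y b hb, eq_comm, QuotientGroup.eq] at h1
    have bb : b * b = 1 := toGU_injective (by
      rw [map_mul, hb]
      change g * guAct 3 F q τ (toGU y) * g⁻¹ * (g * guAct 3 F q τ (toGU y) * g⁻¹) = _
      rw [conj_mul, ← map_mul, ← map_mul, yy]; simp)
    have h3 : y⁻¹ * b = 1 := by
      obtain ⟨z, hz⟩ : ∃ z, z = y⁻¹ * b := ⟨_, rfl⟩
      rw [← hz] at h1 ⊢
      have e1 : b = y * z := by rw [hz, mul_inv_cancel_left]
      have : z * z = 1 := by
        rwa [e1, mul_assoc, ← mul_assoc z, ← mem_center_iff.1 h1, ← mul_assoc, ← mul_assoc, yy,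
          one_mul] at bb
      simpa [pow_three', this] using (center_spec h1).1
    obtain rfl := inv_mul_eq_one.1 h3
    obtain ⟨w, rfl⟩ := (semiPerm g.1 τ).surjective v
    have h4 := (semiPerm_rel_iff g.1 τ (toGU y).1 (toGU y).1).2 (congrArg Subtype.val hb) w
    change y • semiPerm g.1 τ w = semiPerm g.1 τ (y • w) at h4
    rw [hy.smul_zero_vec, hy.smul_zero_vec, (isSemi_semiPerm g.1 τ).1, (isSemi_semiPerm g.1 τ).2,
      add_right_inj, map_mul, ← herm_semiPerm g.2] at h4
    exact h4.symm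
  have fx : ∀ a : F, σ a = a → τ a = a := fun a ha => by
    have h1 := key 1 (map_one _) f
    have h3 := key a ha f
    rw [map_one, one_mul, h.fe, mul_one, one_smul] at h1
    rw [mul_smul, h1, h.fe, mul_one] at h3
    exact smul_left_injective F u0 h3
  have cm : ∀ x, τ (σ x) = σ (τ x) := fun x => by rw [conj_apply, conj_apply, map_pow]
  have h1 : τ ^ 2 = 1 := by
    ext x
    have h3 := fx (x + σ x) (by rw [map_add, conj_conj, add_comm])
    have h4 := fx (x * σ x) (by rw [map_mul, conj_conj, mul_comm])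
    rw [map_add] at h3
    rw [map_mul] at h4
    have h5 : (τ x - x) * (τ x - σ x) = 0 := by
      linear_combination (τ x) * h3 - h4
    change τ (τ x) = x
    rcases mul_eq_zero.1 h5 with h | h
    · rw [sub_eq_zero.1 h, sub_eq_zero.1 h]
    · rw [sub_eq_zero.1 h, cm, sub_eq_zero.1 h, conj_conj]
  exact orderOf_eq_one_iff.1 (Nat.eq_one_of_dvd_coprimes (Nat.coprime_two_right.2 hm)
    (orderOf_dvd_of_pow_eq_one hβm) (orderOf_dvd_of_pow_eq_one h1))

end Cfsg.Agent.RankOne.PGU
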